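import Cfsg.Agent.FGS.NZ.Inj

/-!
# The axes (`Z₁ = x Z x⁻¹`, `T₁ = x T x⁻¹`, `D = Z ⊓ Z₁`)
-/

set_option autoImplicit false
set_option linter.unusedSectionVars false
open Cfsg Subgroup CL.Th CL.MSS CL.Push CL.BHS CL.B2
open CL.CY (Wq)
open CL.FZ (P2)
open scoped commutatorElement

namespace CL.NZ

variable {X : Type*} [Group X] [Finite X] {G J Y T V D P N : Subgroup X} {a b c g h k s t u v w x y z : X}

namespace Axx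

omit [Finite X] in
theorem cjc (a b : X) : b * a * b⁻¹ = ⁅a, b⁆⁻¹ * a := by rw [commutatorElement_def]; group

variable (p : Sq G J Y T V x)
include p

theorem cm (ha : a ∈ Y) (hb : b ∈ Y) : a * b = b * a := p.y.ab hb a ha
theorem iv (ha : a ∈ Y) : a⁻¹ = a := inv_eq_of_mul_eq_one_right (p.y.two a ha)
theorem tz (ht : t ∈ T) (hz : z ∈ oz J) : t * z = z * t := (p.memZ (p.ZY hz)).1 hz t ht
theorem ne1 : x •ᶜ oz J ≠ (1 : X) •ᶜ oz J := fun e => p.xZ (mem_normalizer_iff_cj.2 (e.trans (cj_one _)))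
theorem ax (ht : t ∈ T) (hz : z ∈ oz J) : z ∈ (t * x) •ᶜ oz J ↔ z ∈ x •ᶜ oz J := by
  rw [cj_mul, mem_cj (g := t), mul_assoc, ← tz p ht hz, inv_mul_cancel_left]
theorem inj1 (hy : y ∈ Y) (ny : y ∉ x •ᶜ oz J) (ht : t ∈ x •ᶜ T) (nt : t ∉ 𝐂 Y) : ⁅y, t⁆ ∉ oz J := fun e =>
  (p.inj_cj p.xH (one_mem _) (ne1 p) hy ht (by rwa [cj_one])).elim ny nt
theorem exV : ∃ v ∈ V, v ∉ x •ᶜ oz J := SetLike.not_le_iff_exists.1 fun e => p.xZ (p.of_V_le p.xH e)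

end Axx

open Axx

namespace Sq
variable (p : Sq G J Y T V x)
include p

/-- Take `t' ∈ h T h⁻¹ \ C(Y)`, `y ∈ Y \ h Z h⁻¹`, `u = ⁅y, t'⁆ ∈ h Z h⁻¹`.  If `u ∈ Z` use `inj_cj` with `(h, 1)`.  Otherwise `full`
(for `x`, `y = u`) gives `t ∈ T` with `t u t⁻¹ = ⁅u, t⁆⁻¹ u ∈ Z₁`; `inj_cj` with `(h, t⁻¹ x)`. -/
theorem axes (hh : h ∈ Hq G J Y) : h •ᶜ oz J = oz J ∨ ∃ t ∈ T, h •ᶜ oz J = (t * x) •ᶜ oz J := by
  obtain ⟨t', ht', nt⟩ := p.exists_T h (p.HY hh)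
  obtain ⟨y, hy, ny⟩ : ∃ y ∈ Y, y ∉ h •ᶜ oz J := by
    by_contra! e
    exact nt fun y hy => (p.ZT_cj (e y hy) t' ht').symm
  have hu := p.comm_cj (p.HY hh) hy ht'
  have key : ∀ k ∈ Hq G J Y, ⁅y, t'⁆ ∈ k •ᶜ oz J → h •ᶜ oz J = k •ᶜ oz J := fun k hk e => by
    by_contra n
    exact (p.inj_cj hh hk n hy ht' e).elim ny nt
  by_cases uz : ⁅y, t'⁆ ∈ oz J
  · exact .inl ((key 1 (one_mem _) (by rwa [cj_one])).trans (cj_one _))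
  have uY := p.ZY_cj (p.HY hh) hu
  obtain ⟨t, ht, e⟩ := p.full p.xH p.xZ uY uz uY
  refine .inr ⟨t⁻¹, inv_mem ht, key _ (mul_mem (inv_mem (p.JH (p.t.le ht))) p.xH) ?_⟩
  rwa [cj_mul, mem_cj, inv_inv, cjc]

/-- `T` centralizes `D ≤ Z`. -/
theorem D_le (hh : h ∈ Hq G J Y) : oz J ⊓ x •ᶜ oz J ≤ h •ᶜ oz J := by
  rcases p.axes hh with e | ⟨t, ht, e⟩ <;> rw [e]
  · exact inf_le_left
  · exact fun d hd => (ax p ht hd.1).2 hd.2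

/-- `D_le` for `h⁻¹` and `h⁻¹ x`. -/
theorem normD : Hq G J Y ≤ 𝐍 (oz J ⊓ x •ᶜ oz J : Subgroup X) := fun h hh => mem_normalizer_iff_cj.2 (eq_of_le_of_card_ge (by
    rw [cj_inf, ← cj_mul]; exact le_inf (p.D_le hh) (p.D_le (mul_mem hh p.xH))) (card_cj _ _).le).symm

/-- For `t₁ ∈ T₁ \ C(Y)`: `t₁ ∉ N(Z)` (`inj_cj` with `(x, 1)`, `Z ≰ Z₁`), so `t₁ Z t₁⁻¹ = (t x) Z (t x)⁻¹` and `h₀ = t⁻¹ t₁` centralizes
`D` and `x⁻¹ h₀ ∈ N(Z)`.  By `wc4`, `x⁻¹ h₀` normalizes `⁅Y, T⁆ ≤ Y`, so `⁅Y, T₁⁆ = x ⁅Y, T⁆ x⁻¹ = h₀ ⁅Y, T⁆ h₀⁻¹`. -/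
theorem comm_D (h1 : u ∈ ⁅Y, x •ᶜ T⁆) (h2 : u ∈ oz J) : u ∈ ⁅Y, T⁆ := by
  have xY := p.HY p.xH
  have u1 : u ∈ x •ᶜ oz J := (commutator_le.2 fun y hy t ht => p.comm_cj xY hy ht) h1
  obtain ⟨t₁, h₁, n₁⟩ := p.exists_T x xY
  have tH := p.cjTH p.xH h₁
  obtain ⟨z, hz, nz⟩ := SetLike.not_le_iff_exists.1 fun e : oz J ≤ x •ᶜ oz J =>
    p.xZ (mem_normalizer_iff_cj.2 (eq_of_le_of_card_ge e (card_cj _ _).le).symm)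
  rcases p.axes tH with e | ⟨t, ht, e⟩
  · refine absurd ?_ (inj1 p (p.ZY hz) nz h₁ n₁)
    rw [show ⁅z, t₁⁆ = z * (t₁ * z⁻¹ * t₁⁻¹) by rw [commutatorElement_def]; group]
    exact mul_mem hz (e.le (conj_mem_cj (inv_mem hz)))
  have gH : (t * x)⁻¹ * t₁ ∈ Hq G J Y := mul_mem (inv_mem (mul_mem (p.JH (p.t.le ht)) p.xH)) tH
  obtain ⟨c, hc, hg⟩ := p.wc4 gH (mem_normalizer_iff_cj.2 (by rw [cj_mul, e, inv_cj_cj]))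
  have gK : (c * ((t * x)⁻¹ * t₁)) •ᶜ ⁅Y, T⁆ = ⁅Y, T⁆ := by
    rw [cj_commutator, cj_eq_of_mem_normalizer hg.2, cj_eq_of_mem_normalizer (p.HY (mul_mem hc.1 gH))]
  rw [← cj_eq_of_mem_normalizer xY, ← cj_commutator, mem_cj] at h1
  have k := hc.2 _ (p.ZY ((commutator_le.2 fun y hy t ht => p.comm hy ht) h1))
  rw [← gK, mem_cj] at h1
  have e1 := tz p ht h2
  have e2 := p.ZT_cj u1 t₁ h₁
  convert h1 using 1
  calc u = t₁⁻¹ * (t₁ * u) := by group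
    _ = t₁⁻¹ * (t * u * t⁻¹) * t₁ := by rw [e1, e2]; group
    _ = t₁⁻¹ * (t * x) * (c⁻¹ * (c * (x⁻¹ * u * x))) * ((t * x)⁻¹ * t₁) := by group
    _ = _ := by rw [← k]; group

/-- Take `t₁ ∈ T₁ \ C(Y)`; `y = ⁅t₁, v⁆ ∈ Z₁ \ Z` (`inj_cj` with `(x, 1)`).  `full`: `t ∈ T` with `⁅y, t⁆⁻¹ (v⁻¹ w) ∈ Z₁`; `v' = ⁅t, y⁆ v ∈ Z \ Z₁`.
`full_cj` with `(x, 1)`: `t₂ ∈ T₁` with `⁅v', t₂⁆⁻¹ y ∈ Z`.  `g = t₂ t t₁` has `g v g⁻¹ = d v'`, `d = y ⁅t₂, v'⁆ ∈ ⁅Y, T₁⁆ ⊓ Z`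
(`comm_D`; `Y` is elementary abelian).  `g ∈ N(Z)` by `axes`: `g v g⁻¹ ∈ Z ⊓ (t x) Z (t x)⁻¹` would lie in `Z₁`. -/
theorem move (hv : v ∈ oz J) (nv : v ∉ x •ᶜ oz J) (hw : w ∈ oz J) (nw : w ∉ x •ᶜ oz J) :
    ∃ g ∈ Hq G J Y ⊓ 𝐍 (oz J), v⁻¹ * (g * v * g⁻¹) ∈ ⁅Y, T⁆ ∧ (g * v * g⁻¹)⁻¹ * w ∈ x •ᶜ oz J := by
  have xY := p.HY p.xH
  have vY := p.ZY hv
  obtain ⟨t₁, h₁, n₁⟩ := p.exists_T x xY
  have y1 := inv_mem (p.comm_cj xY vY h₁)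
  have yK : ⁅v, t₁⁆⁻¹ ∈ ⁅Y, x •ᶜ T⁆ := inv_mem (commutator_mem_commutator vY h₁)
  have ny : ⁅v, t₁⁆⁻¹ ∉ oz J := fun e => inj1 p vY nv h₁ n₁ (inv_mem_iff.1 e)
  have e1 := cjc v t₁
  generalize ⁅v, t₁⁆⁻¹ = y at y1 yK ny e1
  have yY := p.ZY_cj xY y1
  obtain ⟨t, ht, e⟩ := p.full p.xH p.xZ yY ny (mul_mem (inv_mem vY) (p.ZY hw))
  have sZ := inv_mem (p.comm yY ht)
  have sK : ⁅y, t⁆⁻¹ ∈ ⁅Y, T⁆ := inv_mem (commutator_mem_commutator yY ht)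
  have e2 := cjc y t
  generalize ⁅y, t⁆⁻¹ = s at e sZ sK e2
  have vZ := mul_mem sZ hv
  rw [iv p vY, ← mul_assoc] at e
  have nv' : s * v ∉ x •ᶜ oz J := fun k => nw ((mul_mem_cancel_left k).1 e)
  obtain ⟨t₂, h₂, dZ⟩ := p.full_cj p.xH (one_mem _) (ne1 p) (p.ZY vZ) nv' yY
  rw [cj_one] at dZ
  have r1 := inv_mem (p.comm_cj xY (p.ZY vZ) h₂)
  have dK := p.comm_D (mul_mem (inv_mem (commutator_mem_commutator (p.ZY vZ) h₂)) yK) dZ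
  have e3 := cjc (s * v) t₂
  generalize ⁅s * v, t₂⁆⁻¹ = r at dZ r1 dK e3
  have E : t₂ * t * t₁ * v * (t₂ * t * t₁)⁻¹ = r * y * (s * v) := by
    calc _ = t₂ * (t * (t₁ * v * t₁⁻¹) * t⁻¹) * t₂⁻¹ := by group
      _ = t₂ * (t * y * t⁻¹ * (t * v * t⁻¹)) * t₂⁻¹ := by rw [e1]; group
      _ = t₂ * y * (s * v) * t₂⁻¹ := by rw [e2, tz p ht hv, cm p (p.ZY sZ) yY]; group
      _ = y * (t₂ * (s * v) * t₂⁻¹) := by rw [p.ZT_cj y1 t₂ h₂]; group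
      _ = _ := by rw [e3, cm p (p.ZY_cj xY r1) yY]; group
  have d1 := mul_mem r1 y1
  have gH := mul_mem (mul_mem (p.cjTH p.xH h₂) (p.JH (p.t.le ht))) (p.cjTH p.xH h₁)
  refine ⟨_, ⟨gH, ?_⟩, ?_, ?_⟩
  · rcases p.axes gH with k | ⟨t₃, h₃, k⟩
    · exact mem_normalizer_iff_cj.2 k
    · have := k.le (conj_mem_cj hv)
      rw [E, ax p h₃ (mul_mem dZ vZ)] at this
      exact absurd ((mul_mem_cancel_left d1).1 this) nv'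
  · rw [E, ← mul_assoc (r * y), cm p (p.ZY (mul_mem dZ sZ)) vY, inv_mul_cancel_left]
    exact mul_mem dK sK
  · rw [E, iv p (p.ZY (mul_mem dZ vZ)), mul_assoc]
    exact mul_mem d1 e

/-- `¬ V ≤ Z₁` (`of_V_le`, `xZ`); `move`, `good`. -/
theorem ZV (hz : z ∈ oz J) : ∃ v ∈ V, v⁻¹ * z ∈ x •ᶜ oz J := by
  by_cases n : z ∈ x •ᶜ oz J
  · exact ⟨1, one_mem _, by simpa using n⟩
  obtain ⟨v, hv, nv⟩ := exV p
  obtain ⟨g, hg, -, e⟩ := p.move (p.VZ hv) nv hz n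
  exact ⟨_, (mem_normalizer_iff.1 (p.good ⟨hg.1.1, hg.2⟩) v).1 hv, e⟩

/-- `v₀ ∈ V \ Z₁`.  `|Z : Z ⊓ Z₁| = |Y : Z₁| = q > 2` (`sup`), so there is `w ∈ Z` with `w, v₀⁻¹ w ∉ Z₁` (`BG.idx2` in INV/B2/Big or
`relIndex_dvd_two_iff`).  `v = v₀⁻¹ g v₀ g⁻¹` from `move` is not in `Z₁`, so `x` does not fix it. -/
theorem exists_v : ∃ v ∈ V, v ∈ ⁅Y, T⁆ ∧ x * v ≠ v * x := by
  obtain ⟨v, hv, nv⟩ := exV p
  have vY := p.ZY (p.VZ hv)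
  obtain ⟨w, hw, nw, nw'⟩ : ∃ w ∈ oz J, w ∉ x •ᶜ oz J ∧ v⁻¹ * w ∉ x •ᶜ oz J := by
    by_contra! k
    have : (x •ᶜ oz J).relIndex Y ∣ 2 := relIndex_dvd_two_iff.2 ⟨v⁻¹, inv_mem vY, fun y hy => by
      obtain ⟨z, hz, e⟩ := p.sup p.xH p.xZ hy
      by_cases n : z ∈ x •ᶜ oz J
      · exact .inr (by simpa using mul_mem n e)
      · refine .inl ?_
        rw [cm p hy (inv_mem vY)]
        simpa [mul_assoc] using mul_mem (k z hz n) e⟩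
    nth_rewrite 1 [← cj_eq_of_mem_normalizer (p.HY p.xH)] at this
    rw [relIndex_cj, p.idxY] at this
    exact absurd (Nat.le_of_dvd two_pos this) (not_le.2 p.q4)
  obtain ⟨g, hg, k, e⟩ := p.move (p.VZ hv) nv hw nw
  have m := mul_mem (inv_mem hv) ((mem_normalizer_iff.1 (p.good ⟨hg.1.1, hg.2⟩) v).1 hv)
  refine ⟨_, m, k, fun c => nw' ?_⟩
  have := conj_mem_cj (g := x) (p.VZ m)
  rw [c, mul_inv_cancel_right] at this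
  simpa [mul_assoc] using mul_mem this e

/-- By `side`, `side'` (also for `p.toPq.symm`) the other case is `a Y a⁻¹, a T a⁻¹ ≤ Q`.  `x` centralizes all squares of elements of `Q`
(`xq`), so it centralizes `⁅y, t⁆ = (y t) ^ 2` for `y ∈ a Y a⁻¹`, `t ∈ a T a⁻¹` and `v = a v a⁻¹` from `exists_v`. -/
theorem cases (ha : a ∈ 𝐍 J) (hV : a ∈ 𝐂 V) : a •ᶜ Y = Y ∨ (a •ᶜ Y = T ∧ a •ᶜ T = Y) := by
  by_cases n : a •ᶜ Y ≤ 𝐂 T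
  swap
  · exact .inl (p.side ha n)
  by_cases n' : a •ᶜ Y ≤ 𝐂 Y
  swap
  · exact .inr (p.side' ha n')
  have n2 : a •ᶜ T ≤ 𝐂 Y := by
    by_contra k
    have e := p.toPq.symm.side ha k
    rw [← e, ← cj_centralizer, cj_le_cj_iff] at n
    exact p.nc n
  have sq : ∀ q ∈ Qy J Y, x * (q * q) = q * q * x := fun q hq => by
    have hy := p.xq q hq
    have c := hq.2 _ hy
    have e := p.y.two _ hy
    generalize hr : x * q * x⁻¹ * q⁻¹ = r at c e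
    have : x * q = r * q * x := by rw [← hr]; group
    calc _ = r * (q * (r * q * x)) := by rw [← mul_assoc, this, ← this]; nth_rewrite 1 [this]; group
      _ = r * r * (q * q * x) := by rw [← mul_assoc q, ← mul_assoc q, ← c]; group
      _ = _ := by rw [e, one_mul]
  obtain ⟨v, hv, k, ne⟩ := p.exists_v
  have le : a •ᶜ ⁅Y, T⁆ ≤ centralizer {x} := by
    rw [cj_commutator]
    refine commutator_le.2 ?_
    rintro _ ⟨y, hy, rfl⟩ _ ⟨t, ht, rfl⟩ _ rfl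
    have := sq _ (mul_mem ⟨cj_le_of_mem_normalizer p.y.le ha (conj_mem_cj hy), n' (conj_mem_cj hy)⟩
      ⟨cj_le_of_mem_normalizer p.t.le ha (conj_mem_cj ht), n2 (conj_mem_cj ht)⟩)
    have e : ⁅y, t⁆ = y * t * (y * t) := by
      rw [commutatorElement_def, iv p hy, inv_eq_of_mul_eq_one_right (p.t.two t ht)]; group
    rw [← map_commutatorElement, e]
    simpa [mul_assoc] using this
  have := le (conj_mem_cj k) x rfl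
  rw [← hV v hv, mul_inv_cancel_right] at this
  exact absurd this ne

end Sq

end CL.NZ
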