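import Cfsg.Agent.FGS.NZ.Inn

/-!
# The Frattini argument
-/

set_option autoImplicit false
set_option linter.unusedSectionVars false
open Cfsg Subgroup CL.Th CL.MSS CL.Push CL.BHS CL.B2
open CL.CY (Wq)
open CL.FZ (P2)
open scoped commutatorElement

namespace CL.NZ

variable {X : Type*} [Group X] [Finite X] {G J Y T V D P N : Subgroup X} {a b c g h k s t u v w x y z : X}

namespace Sq
variable (p : Sq G J Y T V x)
include p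

/-- the elements of `H` acting trivially on `Y / D` -/
def Fr.NN : Subgroup X where
  carrier := {g | g ∈ Hq G J Y ∧ ∀ y ∈ Y, ⁅y, g⁆ ∈ oz J ⊓ x •ᶜ oz J}
  one_mem' := ⟨one_mem _, fun y _ => by rw [commutatorElement_one_right]; exact one_mem _⟩
  mul_mem' := fun {g g'} hg hg' => ⟨mul_mem hg.1 hg'.1, fun y hy => by
    rw [show ⁅y, g * g'⁆ = ⁅y, g⁆ * (g * ⁅y, g'⁆ * g⁻¹) by simp only [commutatorElement_def]; group]
    exact mul_mem (hg.2 y hy) (conj_mem_of_normalizes p.normD hg.1 (hg'.2 y hy))⟩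
  inv_mem' := fun {g} hg => ⟨inv_mem hg.1, fun y hy => by
    rw [show ⁅y, g⁻¹⁆ = g⁻¹ * ⁅y, g⁆⁻¹ * g by simp only [commutatorElement_def]; group]
    exact conj_mem_of_normalizes' p.normD hg.1 (inv_mem (hg.2 y hy))⟩

theorem Fr.norm : Hq G J Y ≤ 𝐍 (Fr.NN p) := le_normalizer_of_cj_le fun h hh => cj_le_iff_forall.2 fun g hg =>
  ⟨mul_mem (mul_mem hh hg.1) (inv_mem hh), fun y hy => by
    rw [show ⁅y, h * g * h⁻¹⁆ = h * ⁅h⁻¹ * y * h, g⁆ * h⁻¹ by simp only [commutatorElement_def]; group]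
    exact conj_mem_of_normalizes p.normD hh (hg.2 _ (conj_mem_of_normalizes' p.HY hh hy))⟩

theorem Fr.normZ : Fr.NN p ≤ 𝐍 (oz J) := le_normalizer_of_cj_le fun g hg => cj_le_iff_forall.2 fun z hz => by
  rw [show g * z * g⁻¹ = ⁅z, g⁆⁻¹ * z by simp only [commutatorElement_def]; group]
  exact mul_mem (inv_mem (hg.2 z (p.toPq.ZY hz)).1) hz

theorem Fr.inf_T (ht : t ∈ T) (hn : t ∈ Fr.NN p) : t ∈ oz J := by
  obtain ⟨y, hy, ny⟩ := SetLike.not_le_iff_exists.1 p.nc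
  rcases p.inj p.xH p.xZ hy ht (hn.2 y hy).2 with e | e
  · exact absurd ((p.toPq.memZ hy).1 e) ny
  · exact (p.toPq.symm.memZ ht).2 e

/-- `N = {g ∈ H | ⁅Y, g⁆ ≤ D}` is normal in `H` (`normD`) and normalizes `Z`.  Let `P₁ ≥ J ⟨c⟩` be a Sylow 2-subgroup of `N ⊔ J`;
`Jt P₁ = J` (`ov`), so `P₁ ≤ N(J) ⊓ N(Y) ≤ N(T)`; `P = P₁ ⊓ N ∋ c` is a Sylow 2-subgroup of `N`.  Frattini: `x = n x'`, `n ∈ N`,
`x' ∈ H ⊓ N(P)`, `x' ∉ N(Z)` (`xZ`).  For `t ∈ T`, `r ∈ P`: `⁅t, r⁆ ∈ T ⊓ N ≤ Z` (`inj` for `h = x`, `y ∉ Z`).  So for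
`t₁ ∈ x' T x'⁻¹ \ C(Y)`: `y = ⁅t₁, c⁆ ∈ x' Z x'⁻¹ ≤ Y`, `⁅t₁, c c⁆ = y (c y c⁻¹) = ⁅y, c⁆ ∈ D ≤ Z`; `inj_cj` with `(x', 1)`. -/
theorem fratt (hc : c ∈ Hq G J Y) (hJ : c ∈ 𝐍 J) (e : ∀ y ∈ Y, ⁅y, c⁆ ∈ oz J ⊓ x •ᶜ oz J) (h2 : c * c ∈ Y) :
    ∃ h ∈ Hq G J Y, h ∉ 𝐍 (oz J) ∧ c * c ∈ h •ᶜ oz J := by
  have c2 : IsPGroup 2 (zpowers c) := by
    refine IsPGroup.of_card_dvd_pow (n := 2) ?_
    rw [Nat.card_zpowers]
    exact orderOf_dvd_of_pow_eq_one (by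
      rw [show c ^ 2 ^ 2 = c * c * (c * c) by rw [← sq, ← sq, ← pow_mul]; rfl]
      exact p.y.two _ h2)
  have cN : c ∈ Fr.NN p := ⟨hc, e⟩
  have NH : Fr.NN p ≤ Hq G J Y := fun g hg => hg.1
  have sH : Fr.NN p ⊔ J ≤ Hq G J Y := sup_le NH p.JH
  obtain ⟨P, hP, le⟩ := exists_sylIn_ge (R := J ⊔ zpowers c) (H := Fr.NN p ⊔ J)
    (p.pg.to_sup_of_normal_left' c2 (zpowers_le.2 hJ))
    (sup_le le_sup_right ((zpowers_le.2 cN).trans le_sup_left))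
  have PH := hP.le.trans sH
  have jP := p.ov P hP.pgroup (le_sup_left.trans le) PH
  have PT : P ≤ 𝐍 T := fun r hr => p.toPq.normT ⟨mem_normalizer_iff_cj.2 (by
    rw [← jP, cj_Jt, cj_eq_of_mem hr]), p.HY (PH hr)⟩
  have hS := hP.inf_normal_of_le (sH.trans (Fr.norm p)) le_sup_left
  obtain ⟨n, hn, k, hk, xe⟩ := hS.frattini (Fr.norm p p.xH)
  have kH : k ∈ Hq G J Y := by
    rw [show k = n⁻¹ * x by rw [xe]; group]
    exact mul_mem (inv_mem (NH hn)) p.xH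
  have kZ : k ∉ 𝐍 (oz J) := fun h => p.xZ (xe ▸ mul_mem (Fr.normZ p hn) h)
  refine ⟨k, kH, kZ, ?_⟩
  obtain ⟨t₁, ht₁, nt⟩ := p.toPq.exists_T k (p.HY kH)
  have hr : k⁻¹ * c * k ∈ P ⊓ Fr.NN p :=
    conj_mem_of_normalizes' le_rfl hk ⟨le (mem_sup_right (mem_zpowers c)), cN⟩
  have ht := mem_cj.1 ht₁
  have hy : ⁅t₁, c⁆ ∈ k •ᶜ oz J := by
    rw [mem_cj, show k⁻¹ * ⁅t₁, c⁆ * k = ⁅k⁻¹ * t₁ * k, k⁻¹ * c * k⁆ by
      simp only [commutatorElement_def]; group]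
    generalize k⁻¹ * t₁ * k = t at ht
    generalize k⁻¹ * c * k = r at hr
    refine Fr.inf_T p ?_ ?_
    · rw [show ⁅t, r⁆ = t * (r * t⁻¹ * r⁻¹) by simp only [commutatorElement_def]; group]
      exact mul_mem ht (conj_mem_of_normalizes PT hr.1 (inv_mem ht))
    · exact mul_mem (conj_mem_of_normalizes (Fr.norm p) (p.JH (p.t.le ht)) hr.2) (inv_mem hr.2)
  have yY := p.toPq.ZY_cj (p.HY kH) hy
  have y2 : ⁅t₁, c⁆⁻¹ = ⁅t₁, c⁆ := inv_eq_of_mul_eq_one_right (p.y.two _ yY)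
  refine (p.inj_cj kH (one_mem _) (fun h => kZ (mem_normalizer_iff_cj.2 (h.trans (cj_one _)))) h2 ht₁
    ?_).resolve_right nt
  rw [cj_one, show ⁅c * c, t₁⁆ = (⁅t₁, c⁆ * c * ⁅t₁, c⁆ * c⁻¹)⁻¹ by
    simp only [commutatorElement_def, mul_inv_rev, inv_inv, mul_assoc, inv_mul_cancel_left, mul_inv_cancel_left]]
  have := (e _ yY).1
  rw [commutatorElement_def, y2] at this
  exact inv_mem this

/-- `W₁ = ⁅Y, T₁⁆`.  Take `t` from `inner` for `b`; `t = t₀ z`, `t₀ = a w a⁻¹`, `w ∈ W₁`, `z ∈ Z` (`dec1`).  `c = t₀ b` acts on `Y` like `t b`, so it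
centralizes `W₁` (`cent`), and `a c a⁻¹ = w b` centralizes `t₀`: `b t₀ b⁻¹ = w⁻¹ t₀ w`, `c c = ⁅w, t₀⁆⁻¹ ∈ Z`.  `fratt` and `inj` give
`w ∈ Z` or `t₀ ∈ C(Y)`; in both cases `t₀ ∈ C(Y)`, and `b = t₀⁻¹ c`. -/
theorem swap_cent (ha : a ∈ 𝐍 J) (e1 : a •ᶜ Y = T) (a2 : a * a = 1) (hG : b ∈ G) (hJ : b ∈ 𝐍 J)
    (hY : b ∈ 𝐍 Y) (h2 : b * b = 1) (hV : b ∈ 𝐂 V) (ab : a * b = b * a) :
    b ∈ 𝐂 (⁅Y, x •ᶜ T⁆ : Subgroup X) := by
  obtain ⟨t, ht, e⟩ := p.inner hG hJ hY h2 hV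
  have WY : ⁅Y, x •ᶜ T⁆ ≤ Y := commutator_le.2 fun y hy s hs => by
    rw [show ⁅y, s⁆ = y * (s * y⁻¹ * s⁻¹) by simp only [commutatorElement_def]; group]
    exact mul_mem hy (conj_mem_of_normalizes p.HY (p.cjTH p.xH hs) (inv_mem hy))
  obtain ⟨w, hw, hz⟩ := p.dec1 (mem_cj.1 (e1.ge ht))
  have aZ : ∀ z ∈ oz J, a * z * a⁻¹ ∈ oz J := fun z hz => conj_mem_of_normalizes p.toPq.normZ ha hz
  have t0 : a * w * a⁻¹ ∈ T := e1.le (conj_mem_cj (WY hw))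
  have hz' := aZ _ hz
  rw [show a * (w⁻¹ * (a⁻¹ * t * a)) * a⁻¹ = (a * w * a⁻¹)⁻¹ * t by group] at hz'
  have aw : a * (a * w * a⁻¹) * a⁻¹ = w := by
    rw [show a * (a * w * a⁻¹) * a⁻¹ = (a * a) * w * (a * a)⁻¹ by group, a2]; group
  have wZ : w ∈ oz J → a * w * a⁻¹ ∈ 𝐂 Y := fun h => p.y.ab (p.toPq.ZY (aZ w h))
  have cw : ∀ c : X, c * w = w * c → a * c * a⁻¹ * (a * w * a⁻¹) = a * w * a⁻¹ * (a * c * a⁻¹) := fun c h => by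
    rw [show a * c * a⁻¹ * (a * w * a⁻¹) = a * (c * w) * a⁻¹ by group, h]; group
  generalize a * w * a⁻¹ = s at t0 hz' aw wZ cw
  have cH : s * b ∈ Hq G J Y := mul_mem (p.JH (p.t.le t0)) ⟨hG, p.toPq.normQ ⟨hJ, hY⟩⟩
  have e' : ∀ y ∈ Y, ⁅y, s * b⁆ ∈ oz J ⊓ x •ᶜ oz J := fun y hy => by
    have h1 := mem_centralizer_iff.1 (p.y.ab (p.toPq.ZY hz')) _
      (conj_mem_of_normalizes le_rfl hY (inv_mem hy))
    have h3 : ⁅y, t * b⁆ = y * s * (s⁻¹ * t * (b * y⁻¹ * b⁻¹)) * t⁻¹ := by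
      simp only [commutatorElement_def]; group
    rw [← h1] at h3
    rw [show ⁅y, s * b⁆ = ⁅y, t * b⁆ by rw [h3]; simp only [commutatorElement_def]; group]
    exact e y hy
  have cc := p.cent cH e'
  have h4 := cw _ (mem_centralizer_iff.1 cc w hw).symm
  rw [show a * (s * b) * a⁻¹ = a * s * a⁻¹ * (a * b) * a⁻¹ by group, aw, ab,
    show w * (b * a) * a⁻¹ = w * b by group] at h4
  have si : s⁻¹ = s := inv_eq_of_mul_eq_one_right (p.t.two _ t0)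
  have wi : w⁻¹ = w := inv_eq_of_mul_eq_one_right (p.y.two _ (WY hw))
  have h5 : s * b * (s * b) = ⁅w, s⁆⁻¹ := by
    rw [show s * b * (s * b) = s * w⁻¹ * (w * b * s) * b by group, h4,
      show s * w⁻¹ * (s * (w * b)) * b = s * w⁻¹ * s * w * (b * b) by group, h2,
      show ⁅w, s⁆⁻¹ = s * w * s⁻¹ * w⁻¹ by simp only [commutatorElement_def]; group, si, wi, mul_one]
  obtain ⟨h, hh, nh, h6⟩ := p.fratt cH (mul_mem (le_normalizer (p.t.le t0)) hJ) e'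
    (h5 ▸ inv_mem (p.toPq.ZY (p.toPq.comm (WY hw) t0)))
  rw [h5, inv_mem_iff] at h6
  have sY : s ∈ 𝐂 Y := (p.inj hh nh (WY hw) t0 h6).elim wZ id
  rw [show b = s⁻¹ * (s * b) by group]
  exact mul_mem (inv_mem (centralizer_le WY sY)) cc

end Sq

end CL.NZ
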