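import Cfsg.Agent.FGS.NZ.NC

/-!
# Commutators lie in one axis only
-/

set_option autoImplicit false
set_option linter.unusedSectionVars false
open Cfsg Subgroup CL.Th CL.MSS CL.Push CL.BHS CL.B2
open CL.CY (Wq)
open CL.FZ (P2)
open scoped commutatorElement

namespace CL.NZ

variable {X : Type*} [Group X] [Finite X] {G J Y T V D P N : Subgroup X} {a b c g h k s t u v w x y z : X}

namespace InjA

/-- two involutions whose product has even order modulo `C` -/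
theorem dih {C H : Subgroup X} {t' : X} (tH : t ∈ H) (tH' : t' ∈ H) (tt : t * t = 1) (tt' : t' * t' = 1)
    (ev : ∀ n : ℕ, (t * t') ^ n ∈ C → Even n) :
    ∃ ζ, ζ ∉ C ∧ ζ * ζ ∈ C ∧ t * ζ * t⁻¹ = ζ⁻¹ ∧ t' * ζ * t'⁻¹ = ζ⁻¹ ∧
      ∃ d ∈ H, ζ * t = d * t * d⁻¹ ∨ ζ * t = d * t' * d⁻¹ := by
  classical
  have ex : ∃ n : ℕ, 0 < n ∧ (t * t') ^ n ∈ C :=
    ⟨orderOf (t * t'), orderOf_pos _, by rw [pow_orderOf_eq_one]; exact one_mem _⟩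
  obtain ⟨n0, hn⟩ := Nat.find_spec ex
  obtain ⟨l, hl⟩ := ev _ hn
  have i1 : t⁻¹ = t := inv_eq_of_mul_eq_one_right tt
  have i2 : t'⁻¹ = t' := inv_eq_of_mul_eq_one_right tt'
  have a1 : t * (t * t') * t⁻¹ = (t * t')⁻¹ := by
    rw [← mul_assoc, tt, one_mul, mul_inv_rev, i2]
  have a2 : t' * (t * t') * t'⁻¹ = (t * t')⁻¹ := by
    rw [mul_assoc, mul_inv_cancel_right, mul_inv_rev, i1, i2]
  have b1 : ∀ i : ℕ, t * (t * t') ^ i * t⁻¹ = ((t * t') ^ i)⁻¹ := fun i => by rw [← conj_pow, a1, inv_pow]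
  have b2 : ∀ i : ℕ, t' * (t * t') ^ i * t'⁻¹ = ((t * t') ^ i)⁻¹ := fun i => by rw [← conj_pow, a2, inv_pow]
  have b3 : ∀ i : ℕ, t * ((t * t') ^ i)⁻¹ = (t * t') ^ i * t := fun i => by
    rw [← b1, ← mul_assoc, ← mul_assoc, tt, one_mul, i1]
  refine ⟨(t * t') ^ l, fun e => Nat.find_min ex (m := l) (by omega) ⟨by omega, e⟩,
    by rwa [← pow_add, ← hl], b1 l, b2 l, ?_⟩
  have rH : ∀ i : ℕ, (t * t') ^ i ∈ H := fun i => pow_mem (mul_mem tH tH') i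
  obtain ⟨i, rfl | rfl⟩ := Nat.even_or_odd' l
  · exact ⟨_, rH i, Or.inl (by rw [mul_assoc ((t * t') ^ i) t, b3, ← mul_assoc, ← pow_add, two_mul])⟩
  · refine ⟨_, mul_mem (rH i) tH, Or.inr ?_⟩
    rw [mul_inv_rev, i1, b3, two_mul, add_right_comm, pow_add, pow_succ]
    simp only [mul_assoc]

omit [Finite X] in
theorem cN (hg : g ∈ 𝐍 Y) (hc : c ∈ 𝐂 Y) : g * c * g⁻¹ ∈ 𝐂 Y :=
  (mem_normalizer_iff.1 (normalizer_le_normalizer_centralizer Y hg) c).1 hc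

omit [Finite X] in
theorem cN' (hg : g ∈ 𝐍 Y) (hc : g * c * g⁻¹ ∈ 𝐂 Y) : c ∈ 𝐂 Y :=
  (mem_normalizer_iff.1 (normalizer_le_normalizer_centralizer Y hg) c).2 hc

/-- the commutator map covers `Y / Z'` as soon as the preimage of `Z'` lies in `Z` -/
theorem cov (p : Pq J Y T) (hh : h ∈ 𝐍 Y) (hy : y ∈ Y) (k : ∀ t ∈ T, ⁅y, t⁆ ∈ h •ᶜ oz J → t ∈ 𝐂 Y) (hu : u ∈ Y) :
    ∃ t ∈ T, ⁅y, t⁆⁻¹ * u ∈ h •ᶜ oz J := by
  have cT : IsMulCommutative T := p.symm.elemY.1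
  have yN : y ∈ 𝐍 T := p.t.nB (p.y.le hy)
  have le : (QP.cHom cT yN).range ≤ Y := by rintro _ ⟨v, rfl⟩; exact p.ZY (p.comm hy v.2)
  have i1 : (oz J).relIndex T ≤ (h •ᶜ oz J).relIndex (QP.cHom cT yN).range :=
    QP.relIndex_le_cHom cT yN le_rfl (fun v hv => ⟨⟨v, hv⟩, rfl⟩) fun v hv e => (p.symm.memZ hv).2 (k v hv e)
  have i2 : (h •ᶜ oz J).relIndex Y = (oz J).relIndex T := by
    rw [p.idxT, ← p.idxY, ← relIndex_cj h (oz J) Y, cj_eq_of_mem_normalizer hh]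
  obtain ⟨_, ⟨v, rfl⟩, e⟩ := CY.BigA.cover le
    (le_antisymm (relIndex_le_of_le_right le rel_ne) (i2.trans_le i1)) hu
  exact ⟨v, v.2, e⟩

end InjA
open InjA

namespace Sq
variable (p : Sq G J Y T V x)
include p

/-- Take `t' ∈ h T h⁻¹ \ C(Y)` (`exists_T`), `ρ = t t'`, `u = ⁅w, t⁆ ≠ 1` (`fix`); `t'` fixes `w` and `u`, `t` fixes `u`, so
`ρ ^ n w ρ⁻ⁿ = w u ^ n`.  The least `n > 0` with `ρ ^ n ∈ C(Y)` is even, `n = 2 l`; `ζ = ρ ^ l ∉ C(Y)`, `ζ ζ ∈ C(Y)`, `t` and `t'`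
invert `ζ`.  `σ = ζ t` is `ρ ^ i t ρ⁻ⁱ` (`l = 2 i`) or `(ρ ^ i t) t' (ρ ^ i t)⁻¹` (`l = 2 i + 1`), so `σ ∈ d T d⁻¹ \ C(Y)`, `d ∈ H`,
and `⁅t, σ⁆ ∈ C(Y)`.  `nocomm` gives `d ∈ N(Z)`, `wc4` gives `σ ≡ t₂ ∈ T` modulo `C(Y)`, so `ζ ≡ t₂ t ∈ T \ C(Y)` commutes with
`t'` modulo `C(Y)`: `nocomm` again. -/
theorem inj0 (hh : h ∈ Hq G J Y) (n : h ∉ 𝐍 (oz J)) (hw : w ∈ h •ᶜ oz J) (ht : t ∈ T) (nt : t ∉ 𝐂 Y)
    (e : ⁅w, t⁆ ∈ h •ᶜ oz J) : w ∈ oz J := by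
  by_contra nw
  have q := p.toPq
  have wY : w ∈ Y := q.ZY_cj (p.HY hh) hw
  have uZ : ⁅w, t⁆ ∈ oz J := q.comm wY ht
  have tJ : t ∈ J := q.t.le ht
  have tH : t ∈ Hq G J Y := p.JH tJ
  have tN : t ∈ 𝐍 Y := p.HY tH
  have u1 : ⁅w, t⁆ ≠ 1 := fun e1 => nw (q.fix wY tJ nt (commutatorElement_eq_one_iff_mul_comm.1 e1).symm)
  have uu : ⁅w, t⁆ * ⁅w, t⁆ = 1 := q.y.two _ (q.ZY uZ)
  obtain ⟨t', ht', nt'⟩ := q.exists_T h (p.HY hh)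
  have tH' : t' ∈ Hq G J Y := p.cjTH hh ht'
  have tt : t * t = 1 := q.t.two t ht
  have tt' : t' * t' = 1 := by
    obtain ⟨s, hs, rfl⟩ := mem_cj'.1 ht'
    rw [conj_mul, q.t.two s hs, mul_one, mul_inv_cancel]
  have c1 : Commute t' w := mem_centralizer_iff.1 (q.ZT_cj hw) t' ht'
  have c2 : Commute t' ⁅w, t⁆ := mem_centralizer_iff.1 (q.ZT_cj e) t' ht'
  have c3 : Commute t ⁅w, t⁆ := mem_centralizer_iff.1 ((q.memZ (q.ZY uZ)).1 uZ) t ht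
  have c4 : Commute (t * t') ⁅w, t⁆⁻¹ := (c3.mul_left c2).inv_right
  have r2 : (t * t') * w * (t * t')⁻¹ = w * ⁅w, t⁆⁻¹ := by
    have wc : w * ⁅w, t⁆⁻¹ = ⁅w, t⁆⁻¹ * w := mem_centralizer_iff.1 (q.y.ab (inv_mem (q.ZY uZ))) w wY
    rw [wc, mul_assoc t, c1.eq, commutatorElement_def]; group
  have r3 : ∀ i : ℕ, (t * t') ^ i * w * ((t * t') ^ i)⁻¹ = w * ⁅w, t⁆⁻¹ ^ i := fun i => by
    induction i with
    | zero => simp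
    | succ i ih =>
      calc _ = (t * t') * ((t * t') ^ i * w * ((t * t') ^ i)⁻¹) * (t * t')⁻¹ := by
            rw [pow_succ', mul_inv_rev (t * t')]; simp only [mul_assoc]
        _ = ((t * t') * w * (t * t')⁻¹) * ((t * t') * ⁅w, t⁆⁻¹ ^ i * (t * t')⁻¹) := by rw [ih]; group
        _ = _ := by rw [r2, (c4.pow_right i).eq, mul_inv_cancel_right, pow_succ', mul_assoc]
  obtain ⟨ζ, nζ, ζζ, i1, i2, d, hd, hσ⟩ := dih (C := 𝐂 Y) tH tH' tt tt' fun i hi => by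
    have := r3 i
    rw [← mem_centralizer_iff.1 hi w wY, mul_inv_cancel_right, left_eq_mul, inv_pow, inv_eq_one] at this
    by_contra o
    obtain ⟨j, rfl⟩ := Nat.not_even_iff_odd.1 o
    rw [pow_succ, pow_mul, sq, uu, one_pow, one_mul] at this
    exact u1 this
  obtain ⟨d, hd, hσ, nσ⟩ : ∃ d ∈ Hq G J Y, ζ * t ∈ d •ᶜ T ∧ ζ * t ∉ 𝐂 Y := by
    rcases hσ with e1 | e1
    · exact ⟨d, hd, e1 ▸ conj_mem_cj ht, fun k => nt (cN' (p.HY hd) (e1 ▸ k))⟩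
    · exact ⟨d * h, mul_mem hd hh, by rw [cj_mul, e1]; exact conj_mem_cj ht', fun k => nt' (cN' (p.HY hd) (e1 ▸ k))⟩
  have ζN : ζ ∈ 𝐍 Y := (mul_mem_cancel_right tN).1 (p.HY (p.cjTH hd hσ))
  have dZ := p.nocomm hd ht nt hσ nσ (by
    have : ⁅t, ζ * t⁆ = (ζ * ζ)⁻¹ := by
      calc _ = t * ζ * t⁻¹ * ζ⁻¹ := by rw [commutatorElement_def]; group
        _ = _ := by rw [i1, mul_inv_rev]
    rw [this]; exact inv_mem ζζ)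
  obtain ⟨c, hc, hcd⟩ := p.wc4 hd dZ
  replace hc : c ∈ 𝐂 Y := hc.2
  have h2 : c * (ζ * t) * c⁻¹ ∈ T := by
    rw [← cj_eq_of_mem_normalizer hcd.2, cj_mul]; exact conj_mem_cj hσ
  have e3 : c * (ζ * t) * c⁻¹ * t⁻¹ = c * ζ * (t * c⁻¹ * t⁻¹) := by group
  have hc' : t * c⁻¹ * t⁻¹ ∈ 𝐂 Y := cN tN (inv_mem hc)
  have tN' : t' ∈ 𝐍 Y := p.HY tH'
  refine n (p.nocomm hh (mul_mem h2 (inv_mem ht)) (fun k => nζ ?_) ht' nt' ?_)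
  · rwa [e3, mul_mem_cancel_right hc', mul_mem_cancel_left hc] at k
  · rw [e3]
    generalize t * c⁻¹ * t⁻¹ = c' at hc'
    have : ⁅c * ζ * c', t'⁆ = c * (ζ * c' * ζ⁻¹) * ((ζ * t') * c'⁻¹ * (ζ * t')⁻¹) *
        (ζ * (t' * ζ * t'⁻¹)⁻¹) * (t' * c⁻¹ * t'⁻¹) := by
      rw [commutatorElement_def]; group
    rw [this, i2, inv_inv]
    exact mul_mem (mul_mem (mul_mem (mul_mem hc (cN ζN hc')) (cN (mul_mem ζN tN') (inv_mem hc'))) ζζ)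
      (cN tN' (inv_mem hc))

/-- `Y = Z Z'`.  Take `w ∈ Z' \ Z` (equal orders, `h ∉ N(Z)`); `QP.relIndex_le_cHom` for `d = w ∈ N(T)` and `inj0` give
`q = |T : Z| ≤ |Z : Z ⊓ Z'|`, and `|Z : Z ⊓ Z'| ≤ |Y : Z'| = q`; `CY.BigA.cover`. -/
theorem sup (hh : h ∈ Hq G J Y) (n : h ∉ 𝐍 (oz J)) (hy : y ∈ Y) : ∃ z ∈ oz J, z⁻¹ * y ∈ h •ᶜ oz J := by
  obtain ⟨w, hw, nw⟩ := SetLike.not_le_iff_exists.1 fun e => n (mem_normalizer_of_cj_le e)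
  have wY : w ∈ Y := p.toPq.ZY_cj (p.HY hh) hw
  obtain ⟨t, ht, e⟩ := cov p.toPq (p.HY hh) wY (fun t ht e => by_contra fun nt => nw (p.inj0 hh n hw ht nt e)) hy
  exact ⟨_, p.toPq.comm wY ht, e⟩

/-- `y = z w`, `⁅y, t⁆ = ⁅w, t⁆`. -/
theorem inj (hh : h ∈ Hq G J Y) (n : h ∉ 𝐍 (oz J)) (hy : y ∈ Y) (ht : t ∈ T) (e : ⁅y, t⁆ ∈ h •ᶜ oz J) :
    y ∈ oz J ∨ t ∈ 𝐂 Y := by
  refine or_iff_not_imp_right.2 fun nt => ?_
  obtain ⟨z, hz, hw⟩ := p.sup hh n hy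
  have zc : z ∈ 𝐂 J := (p.toPq.memZ' (p.toPq.ZY hz)).1 hz
  have c1 : Commute z t := (mem_centralizer_iff.1 zc t (p.t.le ht)).symm
  have c2 : Commute z y := (mem_centralizer_iff.1 zc y (p.y.le hy)).symm
  have : ⁅z⁻¹ * y, t⁆ = ⁅y, t⁆ := by
    calc _ = z⁻¹ * ((y * t * y⁻¹) * z) * t⁻¹ := by rw [commutatorElement_def]; group
      _ = _ := by rw [← ((c2.mul_right c1).mul_right c2.inv_right).eq, inv_mul_cancel_left, commutatorElement_def]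
  exact (mul_mem_cancel_left (inv_mem hz)).1 (p.inj0 hh n hw ht nt (this ▸ e))

/-- `t ↦ ⁅y, t⁆` is a homomorphism `T → Y`; by `inj` the preimage of `Z'` is `Z`; `|T : Z| = |Y : Z'|`. -/
theorem full (hh : h ∈ Hq G J Y) (n : h ∉ 𝐍 (oz J)) (hy : y ∈ Y) (ny : y ∉ oz J) (hu : u ∈ Y) :
    ∃ t ∈ T, ⁅y, t⁆⁻¹ * u ∈ h •ᶜ oz J :=
  cov p.toPq (p.HY hh) hy (fun _ ht e => (p.inj hh n hy ht e).resolve_left ny) hu

/-- `inj` for `k⁻¹ h`, conjugated by `k`. -/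
theorem inj_cj (hk : k ∈ Hq G J Y) (hh : h ∈ Hq G J Y) (n : k •ᶜ oz J ≠ h •ᶜ oz J) (hy : y ∈ Y)
    (ht : t ∈ k •ᶜ T) (e : ⁅y, t⁆ ∈ h •ᶜ oz J) : y ∈ k •ᶜ oz J ∨ t ∈ 𝐂 Y := by
  have n' : k⁻¹ * h ∉ 𝐍 (oz J) := fun e => n (by
    rw [← mul_inv_cancel_left k h, cj_mul, cj_eq_of_mem_normalizer e])
  refine (p.inj (mul_mem (inv_mem hk) hh) n' (conj_mem_of_normalizes' p.HY hk hy) (mem_cj.1 ht) ?_).imp
    mem_cj.2 fun e => cN' (inv_mem (p.HY hk)) (by rwa [inv_inv])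
  rw [mem_cj] at e ⊢
  convert e using 1
  simp only [commutatorElement_def]; group

theorem full_cj (hk : k ∈ Hq G J Y) (hh : h ∈ Hq G J Y) (n : k •ᶜ oz J ≠ h •ᶜ oz J) (hy : y ∈ Y)
    (ny : y ∉ k •ᶜ oz J) (hu : u ∈ Y) : ∃ t ∈ k •ᶜ T, ⁅y, t⁆⁻¹ * u ∈ h •ᶜ oz J := by
  have n' : k⁻¹ * h ∉ 𝐍 (oz J) := fun e => n (by
    rw [← mul_inv_cancel_left k h, cj_mul, cj_eq_of_mem_normalizer e])
  obtain ⟨t, ht, e⟩ := p.full (mul_mem (inv_mem hk) hh) n' (conj_mem_of_normalizes' p.HY hk hy)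
    (fun e => ny (mem_cj.2 e)) (conj_mem_of_normalizes' p.HY hk hu)
  refine ⟨_, conj_mem_cj ht, ?_⟩
  rw [mem_cj] at e ⊢
  convert e using 1
  simp only [commutatorElement_def]; group

end Sq

end CL.NZ
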