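import Cfsg.Agent.FGS.NZ.Ax

/-!
# Involutions fixing both sides and centralizing `V` are inner
-/

set_option autoImplicit false
set_option linter.unusedSectionVars false
open Cfsg Subgroup CL.Th CL.MSS CL.Push CL.BHS CL.B2
open CL.CY (Wq)
open CL.FZ (P2)
open scoped commutatorElement

namespace CL.NZ

variable {X : Type*} [Group X] [Finite X] {G J Y T V D P N : Subgroup X} {a b c g h k s t u v w x y z : X}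

namespace Inn

theorem cmr (e : Commute s ⁅y, t⁆) : ⁅y, s * t⁆ = ⁅y, s⁆ * ⁅y, t⁆ := by
  calc ⁅y, s * t⁆ = ⁅y, s⁆ * (s * ⁅y, t⁆) * s⁻¹ := by simp only [commutatorElement_def]; group
    _ = _ := by rw [e.eq]; group

theorem cz (e : Commute z t) : ⁅y * z, t⁆ = ⁅y, t⁆ := by
  calc ⁅y * z, t⁆ = y * (z * t) * z⁻¹ * y⁻¹ * t⁻¹ := by simp only [commutatorElement_def]; group
    _ = _ := by rw [e.eq, commutatorElement_def]; group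

theorem cjc (g y t : X) : g * ⁅y, t⁆ * g⁻¹ = ⁅g * y * g⁻¹, g * t * g⁻¹⁆ := by
  simp only [commutatorElement_def]; group

theorem cmY (hg : g ∈ 𝐍 Y) (hy : y ∈ Y) : ⁅y, g⁆ ∈ Y := by
  have := mul_mem hy ((mem_normalizer_iff.1 hg _).1 (inv_mem hy))
  simpa only [commutatorElement_def, mul_assoc] using this

theorem cml (ab : Y ≤ 𝐂 Y) (hg : g ∈ 𝐍 Y) (hy : y ∈ Y) (hw : w ∈ Y) : ⁅y * w, g⁆ = ⁅y, g⁆ * ⁅w, g⁆ := by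
  have e1 : y * ⁅w, g⁆ = ⁅w, g⁆ * y := ab (cmY hg hw) y hy
  have e2 : ⁅w, g⁆ * ⁅y, g⁆ = ⁅y, g⁆ * ⁅w, g⁆ := ab (cmY hg hy) _ (cmY hg hw)
  calc ⁅y * w, g⁆ = (y * ⁅w, g⁆) * y⁻¹ * ⁅y, g⁆ := by simp only [commutatorElement_def]; group
    _ = _ := by rw [e1, ← e2]; group

variable (p : Sq G J Y T V x)
include p

theorem inv (hy : y ∈ Y) : y⁻¹ = y := inv_eq_of_mul_eq_one_right (p.y.two y hy)

theorem ZT (hz : z ∈ oz J) (ht : t ∈ T) : Commute z t :=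
  (((p.toPq.memZ (p.toPq.ZY hz)).1 hz) t ht).symm

theorem ne1 : x •ᶜ oz J ≠ (1 : X) •ᶜ oz J := fun e => p.xZ (mem_normalizer_iff_cj.2 (e.trans (cj_one _)))

theorem exy : ∃ y ∈ Y, y ∉ x •ᶜ oz J := by
  obtain ⟨t, ht, n⟩ := p.toPq.exists_T x (p.HY p.xH)
  by_contra hc
  push Not at hc
  exact n fun y hy => (p.toPq.ZT_cj (hc y hy) t ht).symm

theorem ZD (hH : a ∈ Hq G J Y) (hV : a ∈ 𝐂 V) (hz : z ∈ oz J) : z⁻¹ * (a * z * a⁻¹) ∈ oz J ⊓ x •ᶜ oz J := by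
  obtain ⟨v, hv, e⟩ := p.ZV hz
  have hd : v⁻¹ * z ∈ oz J ⊓ x •ᶜ oz J := mem_inf.2 ⟨mul_mem (inv_mem (p.VZ hv)) hz, e⟩
  have := mul_mem (inv_mem hd) ((mem_normalizer_iff.1 (p.normD hH) _).1 hd)
  have c : v * a = a * v := hV v hv
  rwa [show (v⁻¹ * z)⁻¹ * (a * (v⁻¹ * z) * a⁻¹) = z⁻¹ * ((v * a) * v⁻¹ * z * a⁻¹) by group, c,
    show a * v * v⁻¹ * z * a⁻¹ = a * z * a⁻¹ by group] at this

end Inn

open Inn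

namespace Sq
variable (p : Sq G J Y T V x)
include p

/-- `a ∈ H ⊓ N(Z) ⊓ N(T)` (`normQ`, `normZ`, `normT`) and `⁅Z, a⁆ ≤ D` (`ZV`, `normD`).  There is `y ∈ Y \ Z` with `⁅y, a⁆ ∈ Z` (`y₀` or
`⁅y₀, a⁆`).  For `t' = a t a⁻¹`: `⁅y, t'⁆ = a ⁅y, t⁆ a⁻¹ ≡ ⁅y, t⁆` modulo `D`, so `⁅y, t t'⁆ ∈ D ≤ Z₁`; `inj` for `h = x`. -/
theorem inn_T (hG : a ∈ G) (hJ : a ∈ 𝐍 J) (hY : a ∈ 𝐍 Y) (h2 : a * a = 1) (hV : a ∈ 𝐂 V) (ht : t ∈ T) :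
    ⁅t, a⁆ ∈ oz J := by
  have hH : a ∈ Hq G J Y := ⟨hG, p.toPq.normQ ⟨hJ, hY⟩⟩
  have hT : a ∈ 𝐍 T := p.toPq.normT ⟨hJ, hY⟩
  obtain ⟨y, hy, ny, hz⟩ : ∃ y ∈ Y, y ∉ oz J ∧ y⁻¹ * (a * y * a⁻¹) ∈ oz J := by
    obtain ⟨y, hy, n⟩ := SetLike.not_le_iff_exists.1 p.nc
    by_cases c : y⁻¹ * (a * y * a⁻¹) ∈ oz J
    · exact ⟨y, hy, fun e => n ((p.toPq.memZ hy).1 e), c⟩
    · have m : y⁻¹ * (a * y * a⁻¹) ∈ Y := mul_mem (inv_mem hy) ((mem_normalizer_iff.1 hY y).1 hy)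
      refine ⟨_, m, c, ?_⟩
      have : a * (y⁻¹ * (a * y * a⁻¹)) * a⁻¹ = (y⁻¹ * (a * y * a⁻¹))⁻¹ := by
        calc a * (y⁻¹ * (a * y * a⁻¹)) * a⁻¹ = a * y⁻¹ * a⁻¹ * (a * a) * y * (a * a)⁻¹ := by group
          _ = _ := by rw [h2]; group
      rw [this, inv p m, p.y.two _ m]
      exact one_mem _
  have ht' : a * t * a⁻¹ ∈ T := (mem_normalizer_iff.1 hT t).1 ht
  have e1 : a * ⁅y, t⁆ * a⁻¹ = ⁅y, a * t * a⁻¹⁆ := by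
    rw [cjc, ← cz (y := y) (ZT p hz ht'), mul_inv_cancel_left]
  have e2 := ZD p hH hV (p.toPq.comm hy ht)
  rw [e1, inv p (p.toPq.ZY (p.toPq.comm hy ht)), ← cmr (ZT p (p.toPq.comm hy ht') ht).symm] at e2
  have e3 := (p.inj p.xH p.xZ hy (mul_mem ht ht') e2.2).resolve_left ny
  have e4 := (p.toPq.symm.memZ (mul_mem ht ht')).2 e3
  rwa [commutatorElement_def, inv_eq_of_mul_eq_one_right (p.t.two t ht), mul_assoc, mul_assoc, ← mul_assoc a]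

/-- `a Z₁ a⁻¹ = t Z₁ t⁻¹` (`axes` for `a x`, `xZ`), so `c = t a` normalizes `Z₁` (`t t = 1`), and `⁅Z, c⁆ ≤ D`.  For `y ∈ Z₁`, `y' = c y c⁻¹` and
`t₀ ∈ T \ C(Y)`: `⁅y', t₀⁆ = c ⁅y, t₀⁆ c⁻¹ ≡ ⁅y, t₀⁆` modulo `D` (`inn_T`), so `y y' ∈ Z` (`inj`).  `Y = Z Z₁` (`sup`). -/
theorem inner (hG : a ∈ G) (hJ : a ∈ 𝐍 J) (hY : a ∈ 𝐍 Y) (h2 : a * a = 1) (hV : a ∈ 𝐂 V) :
    ∃ t ∈ T, ∀ y ∈ Y, ⁅y, t * a⁆ ∈ oz J ⊓ x •ᶜ oz J := by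
  have hH : a ∈ Hq G J Y := ⟨hG, p.toPq.normQ ⟨hJ, hY⟩⟩
  have hT : a ∈ 𝐍 T := p.toPq.normT ⟨hJ, hY⟩
  have hZ : a ∈ 𝐍 (oz J) := p.toPq.normZ hJ
  obtain ⟨t, ht, e⟩ := (p.axes (mul_mem hH p.xH)).resolve_left fun e =>
    p.xZ ((mul_mem_cancel_left hZ).1 (mem_normalizer_iff_cj.2 e))
  have cY : t * a ∈ 𝐍 Y := mul_mem (p.y.nB (p.t.le ht)) hY
  have c1 : t * a ∈ 𝐍 (x •ᶜ oz J : Subgroup X) := by
    rw [mem_normalizer_iff_cj, ← cj_mul, mul_assoc, cj_mul, e, ← cj_mul, ← mul_assoc, p.t.two t ht, one_mul]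
  have kz : ∀ z ∈ oz J, z⁻¹ * (t * a * z * (t * a)⁻¹) ∈ oz J ⊓ x •ᶜ oz J := fun z hz => by
    rw [show t * a * z * (t * a)⁻¹ = t * (a * z * a⁻¹) * t⁻¹ by group,
      ← (ZT p ((mem_normalizer_iff.1 hZ z).1 hz) ht).eq, mul_inv_cancel_right]
    exact ZD p hH hV hz
  obtain ⟨t₀, ht₀, n⟩ := SetLike.not_le_iff_exists.1 p.toPq.symm.nc
  have tY : t₀ ∈ 𝐍 Y := p.y.nB (p.t.le ht₀)
  have kw : ∀ w ∈ x •ᶜ oz J, ⁅w, t * a⁆ ∈ oz J ⊓ x •ᶜ oz J := by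
    intro w hw
    have wY := p.toPq.ZY_cj (p.HY p.xH) hw
    have w1 : t * a * w * (t * a)⁻¹ ∈ x •ᶜ oz J := (mem_normalizer_iff.1 c1 w).1 hw
    have w2 := p.toPq.ZY_cj (p.HY p.xH) w1
    have hζ := p.inn_T hG hJ hY h2 hV ht₀
    have e1 : t * a * t₀ * (t * a)⁻¹ = ⁅t₀, a⁆⁻¹ * t₀ := by
      have : t * (a * t₀ * a⁻¹) = a * t₀ * a⁻¹ * t := p.t.ab ((mem_normalizer_iff.1 hT t₀).1 ht₀) t ht
      rw [show t * a * t₀ * (t * a)⁻¹ = t * (a * t₀ * a⁻¹) * t⁻¹ by group, this, commutatorElement_def]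
      group
    have e2 : t * a * ⁅w, t₀⁆ * (t * a)⁻¹ = ⁅t * a * w * (t * a)⁻¹, t₀⁆ := by
      rw [cjc, e1, cmr (p.y.ab (cmY tY w2) _ (inv_mem (p.toPq.ZY hζ))),
        commutatorElement_eq_one_iff_mul_comm.2 (p.y.ab (inv_mem (p.toPq.ZY hζ)) _ w2), one_mul]
    have e3 := kz _ (p.toPq.comm wY ht₀)
    rw [e2, inv p (cmY tY wY), ← cml p.y.ab tY wY w2] at e3
    have e4 := (p.inj p.xH p.xZ (mul_mem wY w2) ht₀ e3.2).resolve_right n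
    have e5 : ⁅w, t * a⁆ = w * (t * a * w * (t * a)⁻¹) := by rw [commutatorElement_def, inv p wY]; group
    rw [e5]
    exact mem_inf.2 ⟨e4, mul_mem hw w1⟩
  refine ⟨t, ht, fun y hy => ?_⟩
  obtain ⟨z, hz, hw⟩ := p.sup p.xH p.xZ hy
  rw [← mul_inv_cancel_left z y, cml p.y.ab cY (p.toPq.ZY hz) (p.toPq.ZY_cj (p.HY p.xH) hw)]
  refine mul_mem ?_ (kw _ hw)
  simpa only [commutatorElement_def, inv_inv, mul_assoc] using kz _ (inv_mem hz)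

/-- `c` normalizes `Z₁`; `wc5`: `c' c ∈ N(T₁)`.  For `t₁ ∈ T₁`, `t₂ = (c' c) t₁ (c' c)⁻¹`, `y ∈ Y`: `c ⁅y, t₁⁆ c⁻¹ = ⁅y, t₂⁆`.  For
`y₀ ∈ Y \ Z₁`: `⁅y₀, t₁ t₂⁆ ∈ D ≤ Z`, so `t₁ t₂ ∈ C(Y)` (`inj_cj` with `(x, 1)`) and `⁅y, t₂⁆ = ⁅y, t₁⁆`. -/
theorem cent (hc : c ∈ Hq G J Y) (e : ∀ y ∈ Y, ⁅y, c⁆ ∈ oz J ⊓ x •ᶜ oz J) :
    c ∈ 𝐂 (⁅Y, x •ᶜ T⁆ : Subgroup X) := by
  have xY := p.HY p.xH
  have cY := p.HY hc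
  have c1 : c ∈ 𝐍 (x •ᶜ oz J : Subgroup X) := mem_normalizer_of_cj_le (cj_le_iff_forall.2 fun w hw => by
    have := mul_mem hw (e _ (inv_mem (p.toPq.ZY_cj xY hw))).2
    simpa only [commutatorElement_def, inv_inv, mul_assoc, mul_inv_cancel_left] using this)
  obtain ⟨c', hc', n⟩ := p.wc5 p.xH hc c1
  have k0 : ∀ u ∈ Y, c' * c * u * (c' * c)⁻¹ = c * u * c⁻¹ := fun u hu => by
    have : c * u * c⁻¹ * c' = c' * (c * u * c⁻¹) := hc'.2 _ ((mem_normalizer_iff.1 cY u).1 hu)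
    rw [show c' * c * u * (c' * c)⁻¹ = c' * (c * u * c⁻¹) * c'⁻¹ by group, ← this, mul_inv_cancel_right]
  obtain ⟨y₀, hy₀, n₀⟩ := exy p
  have key : ∀ y ∈ Y, ∀ t ∈ x •ᶜ T, c * ⁅y, t⁆ * c⁻¹ = ⁅y, t⁆ := by
    intro y hy t ht
    have ht' : c' * c * t * (c' * c)⁻¹ ∈ x •ᶜ T := (mem_normalizer_iff.1 n t).1 ht
    have mY : ∀ y ∈ Y, ∀ t ∈ x •ᶜ T, ⁅y, t⁆ ∈ Y := fun y hy t ht => p.toPq.ZY_cj xY (p.toPq.comm_cj xY hy ht)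
    have k1 : ∀ y ∈ Y, c * ⁅y, t⁆ * c⁻¹ = ⁅y, c' * c * t * (c' * c)⁻¹⁆ := fun y hy => by
      have hd : Commute ⁅y⁻¹, c⁆ (c' * c * t * (c' * c)⁻¹) := (p.toPq.ZT_cj (e _ (inv_mem hy)).2 _ ht').symm
      rw [← k0 _ (mY y hy t ht), cjc, k0 y hy, ← cz (y := y) hd]
      congr 1
      rw [commutatorElement_def]; group
    generalize c' * c * t * (c' * c)⁻¹ = t' at ht' k1
    have k2 : ∀ y ∈ Y, ⁅y, t * t'⁆ = ⁅y, t⁆ * ⁅y, t'⁆ := fun y hy =>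
      cmr (p.toPq.ZT_cj (p.toPq.comm_cj xY hy ht') t ht)
    have k3 : ⁅y₀, t * t'⁆ ∈ (1 : X) •ᶜ oz J := by
      have := (e _ (inv_mem (mY y₀ hy₀ t ht))).1
      rw [commutatorElement_def ⁅y₀, t⁆⁻¹, inv_inv, mul_assoc, mul_assoc, ← mul_assoc c, k1 y₀ hy₀, inv p (mY y₀ hy₀ t ht),
        ← k2 y₀ hy₀] at this
      rwa [cj_one]
    have k4 := (p.inj_cj p.xH (one_mem _) (ne1 p) hy₀ (mul_mem ht ht') k3).resolve_left n₀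
    have k5 := k2 y hy
    rw [commutatorElement_eq_one_iff_mul_comm.2 (k4 y hy)] at k5
    rw [k1 y hy, ← inv_eq_of_mul_eq_one_right k5.symm, inv p (mY y hy t ht)]
  have : ⁅Y, x •ᶜ T⁆ ≤ centralizer {c} := commutator_le.2 fun y hy t ht =>
    mem_centralizer_singleton_iff.2 (mul_inv_eq_iff_eq_mul.1 (key y hy t ht)).symm
  exact fun u hu => mem_centralizer_singleton_iff.1 (this hu)

/-- `Y = ⁅Y, T₁⁆ Z`: `full_cj` with `(x, 1)`. -/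
theorem dec1 (hy : y ∈ Y) : ∃ w ∈ ⁅Y, x •ᶜ T⁆, w⁻¹ * y ∈ oz J := by
  obtain ⟨y₀, hy₀, n₀⟩ := exy p
  obtain ⟨t, ht, e⟩ := p.full_cj p.xH (one_mem _) (ne1 p) hy₀ n₀ hy
  rw [cj_one] at e
  exact ⟨_, commutator_mem_commutator hy₀ ht, e⟩

end Sq

end CL.NZ
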