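import Cfsg.Agent.FGS.NZ.WC
import Cfsg.Agent.SOLV.CoprimeGen
import Cfsg.Agent.SOLV.Fitting

/-!
# Solvable subgroups of `H` fix the axis
-/

set_option autoImplicit false
set_option linter.unusedSectionVars false
open Cfsg Subgroup CL.Th CL.MSS CL.Push CL.BHS CL.B2
open CL.CY (Wq)
open CL.FZ (P2)
open scoped commutatorElement

namespace CL.NZ

variable {X : Type*} [Group X] [Finite X] {G J Y T V D P N : Subgroup X} {a b c g h k s t u v w x y z : X}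

/-- The abstract lemma.  `K` is a finite solvable group, `E ≤ K` elementary abelian of order `> 2`.  `F(K) = O₂(K) × O` with `O` of
odd order.  `O` is generated by the `C_O(e)`, `1 ≠ e ∈ E` (`E` is not cyclic, coprime action); these normalize `E` (`ti`), so
`[C_O(e), E] ≤ O ⊓ E = 1` and `E` centralizes `O`.  `O₂(K)` normalizes `E` (`o2`).  If `E ⊓ O₂(K) = 1` then `E` centralizes
`O₂(K)` too, so `E ≤ C(F(K)) ≤ F(K)` and `E ≤ O₂(K)`, against `E ≠ 1`. -/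
theorem inf_O2_ne {K : Type*} [Group K] [Finite K] (hs : Group.IsSolvable K) {E : Subgroup K}
    (hE : IsElementaryAbelian 2 E) (h4 : 2 < Nat.card E)
    (ti : ∀ e ∈ E, e ≠ 1 → ∀ n : K, n * e = e * n → n ∈ 𝐍 E) (o2 : pCore 2 K ≤ 𝐍 E) :
    E ⊓ pCore 2 K ≠ ⊥ := by
  intro h0
  have E2 : IsPGroup 2 E := fun e => ⟨1, Subtype.ext (by simpa using hE.2 e e.2)⟩
  have key : ∀ (M : Subgroup K) [M.Normal], E ⊓ M = ⊥ → ∀ n ∈ M, n ∈ 𝐍 E → n ∈ 𝐂 E := fun M hM e n a b =>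
    mem_centralizer_iff.2 fun y hy => by
      have : n * y * n⁻¹ * y⁻¹ ∈ E ⊓ M := mem_inf.2 ⟨mul_mem ((mem_normalizer_iff.1 b y).1 hy) (inv_mem hy), by
        simpa [mul_assoc] using mul_mem a (hM.conj_mem _ (inv_mem a) y)⟩
      rw [e, mem_bot, mul_inv_eq_one, mul_inv_eq_iff_eq_mul] at this
      exact this.symm
  have := hE.1
  obtain ⟨m, hm⟩ := IsPGroup.iff_card.1 E2
  have co : (Nat.card E).Coprime (Nat.card (pPrimeCore 2 K)) :=
    hm ▸ Nat.Coprime.pow_left _ ((Nat.Prime.coprime_iff_not_dvd Nat.prime_two).2 (not_dvd_card_pPrimeCore 2 K))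
  have nc : ¬ IsCyclic E := fun c => by
    have : Nat.card E ∣ 2 := c.exponent_eq_card ▸ Monoid.exponent_dvd_of_forall_pow_eq_one fun e => Subtype.ext (by simpa using hE.2 e e.2)
    have := Nat.le_of_dvd (by norm_num) this
    omega
  have a : pPrimeCore 2 K ≤ 𝐂 E := coprime_le_of_forall_centralizer_le E _ _ nc (by simp [normalizer_eq_top]) co fun e he e1 n hn =>
    key _ (disjoint_of_coprime_natCard co).eq_bot n hn.1 (ti e he e1 n (mem_centralizer_singleton_iff.1 hn.2))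
  have b : pCore 2 K ≤ 𝐂 E := fun n hn => key _ h0 n hn (o2 hn)
  have c : E ≤ pCore 2 K := le_pCore_of_le_fittingSubgroup
    ((le_centralizer_iff.1 ((fittingSubgroup_le_pCore_sup 2).trans (sup_le b a))).trans (centralizer_fittingSubgroup_le K)) E2
  rw [inf_eq_left.2 c] at h0
  simp [h0] at h4

/-- Let `f : N →* K` be onto with kernel `C_N(Y)` (quotient by `(𝐂 Y).subgroupOf N`, normal as `N ≤ N(Y)`), `E` the image of `J`:
elementary abelian (`dec`: the image of `T`) of order `|J : Q| > 2`.  `ti`: if `n` commutes with `t ∈ T \ C(Y)` modulo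
`C(Y)` then `n` normalizes `C_Y(t) = Z` (`fix`), and `wc4` gives `c n ∈ N(J)`, `c ∈ C(Y)` (`c` need not lie in `N`, but
`n b n⁻¹ ≡ (c n) b (c n)⁻¹` modulo `C(Y)`).  `o2`: `wc` with `D` the preimage of the 2-group `E O₂(K)`.  So some `b ∈ J \ C(Y)`
maps into `O₂(K)`; by `tr`, `hg` all do.  For `n ∈ N`: `wc` with `D` the preimage of `O₂(K)`, then `normZ`. -/
theorem Sq.sl (p : Sq G J Y T V x) (hN : N ≤ Hq G J Y) (hs : Group.IsSolvable N) (hJ : J ≤ N)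
    (hg : ∀ g ∈ G ⊓ 𝐍 J, (∀ y ∈ Qy J Y, g * y * g⁻¹ * y⁻¹ ∈ Y) → g ∈ N) : N ≤ 𝐍 (oz J) := by
  have NY : N ≤ 𝐍 Y := hN.trans p.HY
  have cc : ∀ m ∈ 𝐍 Y, ∀ c ∈ 𝐂 Y, m * c * m⁻¹ ∈ 𝐂 Y := fun m hm c hc => mem_centralizer_iff.2 fun y hy => by
    have := mem_centralizer_iff.1 hc _ ((mem_normalizer_iff''.1 hm y).1 hy)
    calc y * (m * c * m⁻¹) = m * (m⁻¹ * y * m * c) * m⁻¹ := by group
      _ = _ := by rw [this]; group
  have hC : ((𝐂 Y).subgroupOf N).Normal := ⟨fun c hc m => cc _ (NY m.2) _ hc⟩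
  let f := QuotientGroup.mk' ((𝐂 Y).subgroupOf N)
  have fe : ∀ a b : N, f a = f b ↔ (a : X)⁻¹ * b ∈ 𝐂 Y := fun a b => QuotientGroup.eq
  have f1 : ∀ a : N, f a = 1 ↔ (a : X) ∈ 𝐂 Y := fun a => QuotientGroup.eq_one_iff a
  have fs : Function.Surjective f := QuotientGroup.mk'_surjective _
  obtain ⟨E, hE⟩ : ∃ E, E = (J.subgroupOf N).map f := ⟨_, rfl⟩
  have mJ : ∀ b (hb : b ∈ J), f ⟨b, hJ hb⟩ ∈ E := fun b hb => hE ▸ mem_map_of_mem f (mem_subgroupOf.2 hb)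
  have mT : ∀ e ∈ E, ∃ (t : X) (ht : t ∈ T), f ⟨t, hJ (p.t.le ht)⟩ = e := fun e he => by
    obtain ⟨b, hb, rfl⟩ := hE ▸ he
    obtain ⟨t, ht, a⟩ := p.dec (mem_subgroupOf.1 hb)
    exact ⟨t, ht, (fe _ _).2 a.2⟩
  have el : IsElementaryAbelian 2 E := by
    refine ⟨⟨⟨fun a b => Subtype.ext ?_⟩⟩, fun a ha => ?_⟩
    · obtain ⟨t, ht, e⟩ := mT _ a.2
      obtain ⟨u, hu, e'⟩ := mT _ b.2
      rw [coe_mul, coe_mul, ← e, ← e', ← map_mul, ← map_mul]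
      exact congrArg f (Subtype.ext (mem_centralizer_iff.1 (p.t.ab hu) t ht))
    · obtain ⟨t, ht, rfl⟩ := mT _ ha
      rw [← map_pow, ← map_one f]
      exact congrArg f (Subtype.ext (by simpa [sq] using p.t.two t ht))
  have c4 : 2 < Nat.card E := by
    rw [hE, ← relIndex_ker, QuotientGroup.ker_mk', relIndex_subgroupOf hJ]; exact p.q4
  have key : ∀ n : N, ∀ c ∈ 𝐂 Y, c * n ∈ 𝐍 J → f n ∈ 𝐍 E := fun n c hc hn => by
    refine mem_normalizer_of_cj_le (cj_le_iff_forall.2 fun e he => ?_)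
    obtain ⟨t, ht, rfl⟩ := mT _ he
    have a := (mem_normalizer_iff.1 hn t).1 (p.t.le ht)
    have m : (n : X) * t * (n : X)⁻¹ ∈ 𝐍 Y := NY (mul_mem (mul_mem n.2 (hJ (p.t.le ht))) (inv_mem n.2))
    rw [← map_mul, ← map_inv, ← map_mul, ← (fe ⟨_, hJ a⟩ _).2 ?_]
    · exact mJ _ a
    · convert mul_mem hc (cc _ (inv_mem m) _ (inv_mem hc)) using 1
      simp [mul_assoc]
  have wp : ∀ P : Subgroup (N ⧸ (𝐂 Y).subgroupOf N), IsPGroup 2 P → E ≤ P → ∀ n : N, (∀ e ∈ E, f n * e * (f n)⁻¹ ∈ P) →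
      ∃ c ∈ 𝐂 Y, c * n ∈ 𝐍 J := fun P hP EP n hn => by
    obtain ⟨c, hc, a⟩ := p.wc (D := (P.comap f).map N.subtype) (h := n) ((map_subtype_le _).trans hN) (oU_le_of_pow fun y hy => by
        obtain ⟨y, hy, rfl⟩ := hy
        obtain ⟨k, hk⟩ := hP ⟨f y, hy⟩
        exact ⟨k, (f1 (y ^ 2 ^ k)).1 (by simpa using congrArg Subtype.val hk)⟩)
      (fun b hb => ⟨⟨b, hJ hb⟩, EP (mJ b hb), rfl⟩) (hN n.2)
      (cj_le_iff_forall.2 fun b hb => ⟨n * ⟨b, hJ hb⟩ * n⁻¹, by simpa using hn _ (mJ b hb), rfl⟩)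
    exact ⟨c, hc.2, a⟩
  have E2 : IsPGroup 2 E := fun e => ⟨1, Subtype.ext (by simpa using el.2 e e.2)⟩
  have h0 := inf_O2_ne inferInstance el c4 (fun e he e1 n hn => by
      obtain ⟨t, ht, rfl⟩ := mT _ he
      obtain ⟨n, rfl⟩ := fs n
      rw [← map_mul, ← map_mul, fe] at hn
      have nZ : (n : X) ∈ 𝐍 (oz J) := mem_normalizer_of_cj_le (cj_le_iff_forall.2 fun z hz => by
        have zY := p.ZY hz
        refine p.fix ((mem_normalizer_iff.1 (NY n.2) z).1 zY) (p.t.le ht) (fun a => e1 ((f1 _).2 a)) ?_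
        have a1 := mem_centralizer_iff.1 hn z zY
        have a2 := mem_centralizer_iff.1 ((p.memZ zY).1 hz) t ht
        simp only [coe_mul] at a1
        calc t * (n * z * (n : X)⁻¹) = n * t * (((n : X) * t)⁻¹ * (t * n) * z) * (n : X)⁻¹ := by group
          _ = n * (t * z) * (((n : X) * t)⁻¹ * (t * n)) * (n : X)⁻¹ := by rw [← a1]; group
          _ = _ := by rw [a2]; group)
      obtain ⟨c, hc, a⟩ := p.wc4 (hN n.2) nZ
      exact key n c hc.2 a.1)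
    (fun n hn => by
      obtain ⟨n, rfl⟩ := fs n
      obtain ⟨c, hc, a⟩ := wp (E ⊔ pCore 2 _) (E2.to_sup_of_normal_right oP_pCore_isPGroup) le_sup_left n fun e he =>
        mul_mem (mul_mem (mem_sup_right hn) (mem_sup_left he)) (inv_mem (mem_sup_right hn))
      exact key n c hc a)
  obtain ⟨⟨e, he, eO⟩, e1⟩ := ne_bot_iff_exists_ne_one.1 h0
  obtain ⟨t, ht, rfl⟩ := mT _ he
  have EO : E ≤ pCore 2 _ := fun e he => by
    obtain ⟨u, hu, rfl⟩ := mT _ he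
    by_cases uY : u ∈ 𝐂 Y
    · rw [(f1 _).2 uY]; exact one_mem _
    obtain ⟨g, gG, g1, g2⟩ := p.tr t (p.t.le ht) (fun a => e1 (Subtype.ext ((f1 _).2 a))) u (p.t.le hu) uY
    rw [← (fe (⟨g, hg g gG g1⟩ * ⟨t, hJ (p.t.le ht)⟩ * (⟨g, hg g gG g1⟩ : N)⁻¹) _).2 g2, map_mul, map_mul, map_inv]
    exact Normal.conj_mem inferInstance _ eO _
  intro n hn
  obtain ⟨c, hc, a⟩ := wp _ oP_pCore_isPGroup EO ⟨n, hn⟩ fun e he => Normal.conj_mem inferInstance _ (EO he) _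
  exact (mul_mem_cancel_left (centralizer_le_normalizer _ (centralizer_le p.ZY hc))).1 (p.normZ a)

/-- `sl` for `N = H ⊓ N(V)` (`sM`, `good`, `normZ`; `g` normalizes `Q ≥ Y`). -/
theorem Sq.slV (p : Sq G J Y T V x) : Hq G J Y ⊓ 𝐍 V ≤ 𝐍 (oz J) := by
  have l : Hq G J Y ⊓ 𝐍 V ≤ G ⊓ 𝐍 V := inf_le_inf_right _ inf_le_left
  have := p.sM
  refine p.sl inf_le_left (Group.isSolvable_of_isSolvable_injective (inclusion_injective l))
    (le_inf p.JH fun b hb => p.good ⟨p.JG hb, p.normZ (le_normalizer hb)⟩) fun g hg e => ⟨⟨hg.1, ?_⟩, p.good ⟨hg.1, p.normZ hg.2⟩⟩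
  exact mem_normalizer_of_cj_le (cj_le_iff_forall.2 fun y hy => (mul_mem_cancel_right (inv_mem hy)).1 (p.YQ (e y hy)))

/-- `V ≤ h Z h⁻¹` gives `h T h⁻¹ ≤ C(V)` (`ZT_cj`); `slV`, `wc3`. -/
theorem Sq.of_V_le (p : Sq G J Y T V x) (hh : h ∈ Hq G J Y) (e : V ≤ h •ᶜ oz J) : h ∈ 𝐍 (oz J) :=
  p.wc3 hh ((le_inf (p.cjTH hh) ((le_centralizer_iff.1 (e.trans p.ZT_cj)).trans (centralizer_le_normalizer _))).trans p.slV)

end CL.NZ
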